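import Groth.Agent.DiagSmooth.TorBase
import Groth.Agent.RegularSerre.Serre
import Groth.Agent.CotLib.SmoothRegular
import Groth.Agent.FibrewiseCrit.Smooth
import Mathlib.RingTheory.EssentialFiniteness
import Mathlib.RingTheory.Smooth.Fiber
import Mathlib.RingTheory.Localization.BaseChange

/-!
# Finite Tor dimension of the diagonal implies smoothness
-/

namespace Groth.Agent.DiagSmooth

open TensorProduct IsLocalRing

universe u

/-- The base change of a localization is a localization. -/
theorem isLocalization_tensor {A C B K : Type u} [CommRing A] [CommRing C] [CommRing B] [CommRing K]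
    [Algebra A C] [Algebra A B] [Algebra C B] [IsScalarTower A C B] [Algebra A K]
    (M : Submonoid C) [IsLocalization M B] :
    letI : Algebra (K ⊗[A] C) (K ⊗[A] B) :=
      (Algebra.TensorProduct.map (AlgHom.id A K) (IsScalarTower.toAlgHom A C B)).toRingHom.toAlgebra
    IsLocalization (M.map (Algebra.TensorProduct.includeRight : C →ₐ[A] K ⊗[A] C)) (K ⊗[A] B) := by
  letI : Algebra (K ⊗[A] C) (K ⊗[A] B) :=
    (Algebra.TensorProduct.map (AlgHom.id A K) (IsScalarTower.toAlgHom A C B)).toRingHom.toAlgebra
  letI : Algebra C (K ⊗[A] C) := Algebra.TensorProduct.rightAlgebra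
  letI : Algebra B (K ⊗[A] B) := Algebra.TensorProduct.rightAlgebra
  letI : Algebra C (K ⊗[A] B) := ((algebraMap B (K ⊗[A] B)).comp (algebraMap C B)).toAlgebra
  haveI : IsScalarTower C B (K ⊗[A] B) := IsScalarTower.of_algebraMap_eq fun _ => rfl
  haveI : IsScalarTower C (K ⊗[A] C) (K ⊗[A] B) := IsScalarTower.of_algebraMap_eq fun c => by
    change (1 : K) ⊗ₜ[A] algebraMap C B c =
      Algebra.TensorProduct.map (AlgHom.id A K) (IsScalarTower.toAlgHom A C B) ((1 : K) ⊗ₜ[A] c)
    simp
  haveI : IsScalarTower A C (K ⊗[A] B) := IsScalarTower.of_algebraMap_eq fun a => by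
    rw [IsScalarTower.algebraMap_apply C B (K ⊗[A] B), ← IsScalarTower.algebraMap_apply A C B,
      ← IsScalarTower.algebraMap_apply]
  haveI : IsScalarTower K (K ⊗[A] C) (K ⊗[A] B) := IsScalarTower.of_algebraMap_eq fun z => by
    change z ⊗ₜ[A] (1 : B) =
      Algebra.TensorProduct.map (AlgHom.id A K) (IsScalarTower.toAlgHom A C B) (z ⊗ₜ[A] (1 : C))
    simp
  haveI : IsScalarTower A (K ⊗[A] C) (K ⊗[A] B) := IsScalarTower.of_algebraMap_eq fun a => by
    rw [IsScalarTower.algebraMap_apply A K (K ⊗[A] B), IsScalarTower.algebraMap_apply A K (K ⊗[A] C),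
      ← IsScalarTower.algebraMap_apply K (K ⊗[A] C) (K ⊗[A] B)]
  haveI : Algebra.IsPushout A B K (K ⊗[A] B) := Algebra.IsPushout.symm inferInstance
  haveI : Algebra.IsPushout A C K (K ⊗[A] C) := Algebra.IsPushout.symm inferInstance
  have h : Algebra.IsPushout C B (K ⊗[A] C) (K ⊗[A] B) :=
    (Algebra.IsPushout.comp_iff A C K (K ⊗[A] C) (T := B) (T' := K ⊗[A] B)).1 inferInstance
  exact (Algebra.isLocalization_iff_isPushout M B).2 h.symm

/-- A local ring is its own localization at the maximal ideal. -/
theorem isLocalization_atPrime_self (X : Type u) [CommRing X] [IsLocalRing X] :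
    IsLocalization.AtPrime X (maximalIdeal X) := by
  refine IsLocalization.of_le_isUnit_of_bijective ?_ Function.bijective_id
  rintro _ ⟨x, hx, rfl⟩
  exact not_not.1 fun hu => hx ((mem_maximalIdeal x).2 hu)

/-- Finite Tor dimension of the diagonal gives regularity of the base changed local rings. -/
theorem isRegularLocalRing_of_diag {A B C : Type u} [CommRing A] [CommRing B] [CommRing C]
    [IsLocalRing B] [Algebra A B] [Module.Flat A B] [Algebra A C] [IsNoetherianRing A]
    [Algebra.FiniteType A C] [Algebra C B] [IsScalarTower A C B] (M : Submonoid C) [IsLocalization M B]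
    [Algebra (B ⊗[A] B) B] (hmul : ∀ x y : B, algebraMap (B ⊗[A] B) B (x ⊗ₜ[A] y) = x * y)
    (n : ℕ) (h : DRing.HasTorDimLE (B ⊗[A] B) n B)
    {L : Type u} [Field L] [Algebra B L] [Algebra A L] [IsScalarTower A B L]
    (π : L ⊗[A] C →ₐ[A] L)
    (hπ : ∀ l c, π (l ⊗ₜ[A] c) = l * algebraMap B L (algebraMap C B c)) [(RingHom.ker π).IsPrime] :
    IsRegularLocalRing (Localization.AtPrime (RingHom.ker π)) := by
  let T := B ⊗[A] B
  let Y := L ⊗[A] B
  let S := L ⊗[A] C
  -- the base change along the residue map
  let φ : T →ₐ[A] Y := Algebra.TensorProduct.map (IsScalarTower.toAlgHom A B L) (AlgHom.id A B)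
  letI : Algebra T Y := φ.toRingHom.toAlgebra
  haveI : IsScalarTower B T Y := IsScalarTower.of_algebraMap_eq fun b => by
    change algebraMap B L b ⊗ₜ[A] (1 : B) = φ (b ⊗ₜ[A] (1 : B))
    rfl
  haveI : Algebra.IsPushout B L T Y := by
    letI : Algebra T (L ⊗[B] T) := Algebra.TensorProduct.rightAlgebra
    refine Algebra.IsPushout.of_equiv (R := B) (R' := L) (S := T) (S' := L ⊗[B] T)
      (Algebra.TensorProduct.cancelBaseChange A B L L B) (RingHom.ext fun t => ?_)
    induction t using TensorProduct.induction_on with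
    | zero => simp
    | add a b ha hb => simp only [map_add, ha, hb]
    | tmul x y =>
      change Algebra.TensorProduct.cancelBaseChange A B L L B ((1 : L) ⊗ₜ[B] (x ⊗ₜ[A] y)) = φ (x ⊗ₜ[A] y)
      simp [φ, Algebra.smul_def]
      rfl
  haveI : IsScalarTower B T B := IsScalarTower.of_algebraMap_eq fun b => by
    change b = algebraMap T B (b ⊗ₜ[A] (1 : B))
    rw [hmul, mul_one]
  have hY : DRing.HasTorDimLE Y n (Y ⊗[T] B) :=
    td_baseChange (B := B) (T := T) (S := Y) (L := L) n B inferInstance h
  -- the residue field as a module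
  let πY : Y →ₐ[A] L := Algebra.TensorProduct.lift (AlgHom.id A L) (IsScalarTower.toAlgHom A B L)
    fun _ _ => Commute.all _ _
  have hπY : ∀ l b, πY (l ⊗ₜ[A] b) = l * algebraMap B L b := fun l b => Algebra.TensorProduct.lift_tmul _ _ _ l b
  let e := Algebra.IsPushout.cancelBaseChange B L T Y B
  let u : L → Y ⊗[T] B := fun l => (l ⊗ₜ[A] (1 : B)) ⊗ₜ[T] (1 : B)
  have hu : ∀ l, u l = e.symm ((TensorProduct.rid B L).symm l) := fun l => by
    simp [u, e]
    rfl
  have hv : ∀ y : Y, y ⊗ₜ[T] (1 : B) = u (πY y) := by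
    intro y
    induction y using TensorProduct.induction_on with
    | zero => simp [u]
    | add a c ha hc => simp only [u, map_add, TensorProduct.add_tmul, ha, hc]
    | tmul l b =>
      have h1 : ((1 : B) ⊗ₜ[A] b : T) • (1 : B) = b := by rw [Algebra.smul_def, hmul, one_mul, mul_one]
      have h2 : (b ⊗ₜ[A] (1 : B) : T) • (1 : B) = b := by rw [Algebra.smul_def, hmul, mul_one, mul_one]
      have h3 : ∀ (t : T) (y : Y), (algebraMap T Y t * y) ⊗ₜ[T] (1 : B) = y ⊗ₜ[T] (t • (1 : B)) := fun t y => by
        rw [← TensorProduct.smul_tmul, Algebra.smul_def]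
      have h4 := h3 ((1 : B) ⊗ₜ[A] b) (l ⊗ₜ[A] (1 : B))
      have h5 := h3 (b ⊗ₜ[A] (1 : B)) (l ⊗ₜ[A] (1 : B))
      rw [h1] at h4
      rw [h2, ← h4] at h5
      have e1 : algebraMap T Y ((1 : B) ⊗ₜ[A] b) * l ⊗ₜ[A] (1 : B) = l ⊗ₜ[A] b := by
        change (algebraMap B L (1 : B) ⊗ₜ[A] b) * l ⊗ₜ[A] (1 : B) = l ⊗ₜ[A] b
        simp
      have e2 : algebraMap T Y (b ⊗ₜ[A] (1 : B)) * l ⊗ₜ[A] (1 : B) = (l * algebraMap B L b) ⊗ₜ[A] (1 : B) := by
        change (algebraMap B L b ⊗ₜ[A] (1 : B)) * l ⊗ₜ[A] (1 : B) = _
        simp [mul_comm]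
      rw [e1, e2] at h5
      rw [hπY]
      exact h5.symm
  have hsm : ∀ (y z : Y), y • (z ⊗ₜ[T] (1 : B)) = (y * z) ⊗ₜ[T] (1 : B) := fun y z => by
    rw [TensorProduct.smul_tmul', smul_eq_mul]
  have h6 : ∀ (y : Y) (l : L), u (πY y * l) = (y * l ⊗ₜ[A] (1 : B)) ⊗ₜ[T] (1 : B) := fun y l => by
    rw [hv, map_mul, hπY, map_one, mul_one]
  letI iM : Module Y (Y ⊗[T] B) := inferInstance
  letI : Algebra Y L := πY.toRingHom.toAlgebra
  let ψ : L →ₗ[Y] Y ⊗[T] B :=
    { toFun := u
      map_add' := fun l l' => by simp only [u, TensorProduct.add_tmul]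
      map_smul' := fun y l => (h6 y l).trans (hsm y _).symm }
  have hψ : Function.Bijective ψ := by
    have : (⇑ψ : L → Y ⊗[T] B) = e.symm ∘ (TensorProduct.rid B L).symm := funext hu
    rw [this]
    exact e.symm.bijective.comp (LinearEquiv.bijective _)
  have hL : DRing.HasTorDimLE Y n L := td_of_linearEquiv (LinearEquiv.ofBijective ψ hψ).symm hY
  -- restrict to the finite type algebra and localise
  letI : Algebra S Y :=
    (Algebra.TensorProduct.map (AlgHom.id A L) (IsScalarTower.toAlgHom A C B)).toRingHom.toAlgebra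
  haveI : IsLocalization (M.map (Algebra.TensorProduct.includeRight : C →ₐ[A] S)) Y :=
    isLocalization_tensor (A := A) (C := C) (B := B) (K := L) M
  haveI : Module.Flat S Y := IsLocalization.flat Y (M.map (Algebra.TensorProduct.includeRight : C →ₐ[A] S))
  letI : Algebra S L := π.toRingHom.toAlgebra
  haveI : @IsScalarTower S Y L Algebra.toSMul Algebra.toSMul Algebra.toSMul := IsScalarTower.of_algebraMap_eq fun s => by
    induction s using TensorProduct.induction_on with
    | zero => simp
    | add a b ha hb => simp only [map_add, ha, hb]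
    | tmul l c =>
      change π (l ⊗ₜ[A] c) = πY (Algebra.TensorProduct.map (AlgHom.id A L) (IsScalarTower.toAlgHom A C B) (l ⊗ₜ[A] c))
      rw [hπ]
      rw [Algebra.TensorProduct.map_tmul, hπY]
      rfl
  have hS : DRing.HasTorDimLE S n L := td_restrict (T := Y) n L hL
  let p := RingHom.ker π
  let R := Localization.AtPrime p
  have hR : DRing.HasTorDimLE R n (R ⊗[S] L) := td_flat_baseChange n L hS
  have hπs : Function.Surjective (algebraMap S L) := fun l => ⟨l ⊗ₜ[A] 1, by
    change π (l ⊗ₜ[A] 1) = l
    rw [hπ, map_one, map_one, mul_one]⟩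
  let e1 : (S ⧸ p) ≃ₗ[S] L :=
    (Submodule.quotEquivOfEq p (LinearMap.ker (Algebra.linearMap S L)) rfl).trans
      (LinearMap.quotKerEquivOfSurjective (Algebra.linearMap S L) hπs)
  let e2 : R ⊗[S] L ≃ₗ[R] ResidueField R :=
    (TensorProduct.AlgebraTensorModule.congr (LinearEquiv.refl R R) e1.symm).trans
      ((Algebra.TensorProduct.quotIdealMapEquivTensorQuot R p).symm.toLinearEquiv.trans
        (Submodule.quotEquivOfEq (p.map (algebraMap S R)) (maximalIdeal R) Localization.AtPrime.map_eq_maximalIdeal))
  haveI : IsNoetherianRing S := Algebra.FiniteType.isNoetherianRing L S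
  haveI : IsNoetherianRing R := IsLocalization.isNoetherianRing p.primeCompl R inferInstance
  haveI : Module.Finite R (ResidueField R) :=
    Module.Finite.of_surjective (Algebra.linearMap R (ResidueField R)) Ideal.Quotient.mk_surjective
  exact RegularSerre.isRegularLocalRing_of_projDim_residueField _ R le_rfl n
    (projDim_of_td n _ (td_of_linearEquiv e2 hR))

/-- A rational point with regular local ring is smooth, transported along an isomorphism. -/
theorem mem_smoothLocus_of_isRegularLocalRing {L F G : Type u} [Field L] [CommRing F] [Algebra L F]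
    [CommRing G] [Algebra L G] [Algebra.FiniteType L G] (e : F ≃ₐ[L] G) (π : G →ₐ[L] L) [(RingHom.ker π).IsPrime]
    [IsRegularLocalRing (Localization.AtPrime (RingHom.ker π))] [(RingHom.ker (π.comp e.toAlgHom)).IsPrime] :
    (⟨RingHom.ker (π.comp e.toAlgHom), inferInstance⟩ : PrimeSpectrum F) ∈ Algebra.smoothLocus L F := by
  let Q := RingHom.ker (π.comp e.toAlgHom)
  haveI : IsRegularLocalRing (Localization.AtPrime Q) := by
    let e' : Localization.AtPrime Q ≃+* Localization.AtPrime (RingHom.ker π) :=
      IsLocalization.ringEquivOfRingEquiv (M := Q.primeCompl) (T := (RingHom.ker π).primeCompl)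
        (Localization.AtPrime Q) (Localization.AtPrime (RingHom.ker π)) e.toRingEquiv
        (by
          ext y
          constructor
          · rintro ⟨x, hx, rfl⟩
            exact hx
          · intro hy
            refine ⟨e.symm y, fun hx => hy ?_, e.apply_symm_apply y⟩
            change π (e (e.symm y)) = 0 at hx
            rwa [e.apply_symm_apply] at hx)
    exact IsRegularLocalRing.of_ringEquiv e'.symm
  haveI : Algebra.FiniteType L F := Algebra.FiniteType.equiv inferInstance e.symm
  haveI : Algebra.IsGeometricallyReduced L Q.ResidueField := by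
    have hsurj : Function.Surjective (algebraMap L Q.ResidueField) := by
      haveI : Q.IsMaximal := RingHom.ker_isMaximal_of_surjective _ fun l => ⟨algebraMap L F l, AlgHom.commutes _ l⟩
      intro y
      obtain ⟨a, rfl⟩ := Ideal.algebraMap_residueField_surjective Q y
      refine ⟨π (e a), ?_⟩
      rw [IsScalarTower.algebraMap_apply L F Q.ResidueField, ← sub_eq_zero, ← map_sub,
        Ideal.algebraMap_residueField_eq_zero, RingHom.mem_ker, map_sub, AlgHom.commutes]
      exact sub_self _
    let eL : L ≃ₐ[L] Q.ResidueField :=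
      AlgEquiv.ofBijective (Algebra.ofId L _) ⟨(algebraMap L Q.ResidueField).injective, hsurj⟩
    haveI : Algebra.IsGeometricallyReduced L L := by
      rw [Algebra.isGeometricallyReduced_field_iff]
      exact isReduced_of_injective (Algebra.TensorProduct.rid L L (AlgebraicClosure L)).toAlgHom
        (Algebra.TensorProduct.rid L L (AlgebraicClosure L)).injective
    exact Algebra.IsGeometricallyReduced.of_injective eL.symm.toAlgHom eL.symm.injective
  exact (CotLib.isSmoothAt_iff_regular Q).2 inferInstance

/-- Formal smoothness of a local ring from regularity of a rational point over the residue field. -/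
theorem formallySmooth_of_point {k L F G X : Type u} [Field k] [Field L] [Algebra k L]
    [CommRing F] [Algebra k F] [Algebra.FiniteType k F]
    [CommRing G] [Algebra L G] [Algebra.FiniteType L G] (e : L ⊗[k] F ≃ₐ[L] G) (π : G →ₐ[L] L)
    [(RingHom.ker π).IsPrime] [IsRegularLocalRing (Localization.AtPrime (RingHom.ker π))]
    [CommRing X] [IsLocalRing X] [Algebra F X] [Algebra k X] [IsScalarTower k F X]
    [IsLocalization.AtPrime X ((maximalIdeal X).comap (algebraMap F X))]
    (μ : X →+* L) (hμ : Function.Surjective μ)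
    (hcomp : ∀ f, π (e ((1 : L) ⊗ₜ[k] f)) = μ (algebraMap F X f)) : Algebra.FormallySmooth k X := by
  haveI : Algebra.FinitePresentation k F := Algebra.FinitePresentation.of_finiteType.1 inferInstance
  haveI : (RingHom.ker (π.comp e.toAlgHom)).IsPrime := RingHom.ker_isPrime _
  have hF := (FibrewiseCrit.smoothLocus_baseChange_of_flat k L F _).1 (mem_smoothLocus_of_isRegularLocalRing e π)
  let q' : Ideal F := (maximalIdeal X).comap (algebraMap F X)
  have hq' : (PrimeSpectrum.comap (Algebra.TensorProduct.includeRight : F →ₐ[k] L ⊗[k] F).toRingHom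
      ⟨RingHom.ker (π.comp e.toAlgHom), inferInstance⟩).asIdeal = q' := by
    ext f
    change π (e ((1 : L) ⊗ₜ[k] f)) = 0 ↔ algebraMap F X f ∈ maximalIdeal X
    rw [← eq_maximalIdeal (RingHom.ker_isMaximal_of_surjective μ hμ), RingHom.mem_ker, hcomp]
  have h' : Algebra.IsSmoothAt k q' := by
    have h'' : Algebra.IsSmoothAt k _ := hF
    simpa only [hq'] using h''
  haveI : Algebra.FormallySmooth k (Localization.AtPrime q') := h'
  exact Algebra.FormallySmooth.of_equiv
    ((IsLocalization.algEquiv q'.primeCompl (Localization.AtPrime q') X).restrictScalars k)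

/-- Finite Tor dimension of the diagonal implies smoothness. -/
theorem exists_smooth_isLocalization {A B : Type u} [CommRing A] [CommRing B]
    [Algebra A B] [IsNoetherianRing A] [IsLocalRing A] [IsLocalRing B]
    [IsLocalHom (algebraMap A B)] [Module.Flat A B] [Algebra.EssFiniteType A B]
    [Algebra (B ⊗[A] B) B]
    (hmul : ∀ x y : B, algebraMap (B ⊗[A] B) B (x ⊗ₜ[A] y) = x * y)
    (h : DRing.HasFiniteTorDim (B ⊗[A] B) B) :
    ∃ (C : Type u) (_ : CommRing C) (_ : Algebra A C) (_ : Algebra C B) (_ : IsScalarTower A C B)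
      (q : Ideal C) (_ : q.IsPrime), Algebra.Smooth A C ∧ IsLocalization.AtPrime B q := by
  classical
  obtain ⟨n, hn⟩ := h
  obtain ⟨σ, hσ⟩ := (‹Algebra.EssFiniteType A B›).cond
  let C := Algebra.adjoin A (σ : Set B)
  haveI : Algebra.FiniteType A C := (Subalgebra.fg_iff_finiteType _).1 ⟨σ, rfl⟩
  haveI : Algebra.FinitePresentation A C := Algebra.FinitePresentation.of_finiteType.1 inferInstance
  let q : Ideal C := (maximalIdeal B).comap (algebraMap C B)
  have hqM : q.primeCompl = (IsUnit.submonoid B).comap (algebraMap C B) := by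
    ext c
    change ¬ (algebraMap C B c ∈ maximalIdeal B) ↔ IsUnit (algebraMap C B c)
    rw [mem_maximalIdeal, mem_nonunits_iff, not_not]
  haveI hloc : IsLocalization.AtPrime B q := by
    change IsLocalization q.primeCompl B
    rw [hqM]; exact hσ
  -- smoothness of the closed fibre
  let k := ResidueField A
  let L := ResidueField B
  let F := k ⊗[A] C
  let X := k ⊗[A] B
  letI : Algebra F X :=
    (Algebra.TensorProduct.map (AlgHom.id A k) (IsScalarTower.toAlgHom A C B)).toRingHom.toAlgebra
  haveI : IsScalarTower k F X := IsScalarTower.of_algebraMap_eq fun z => by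
    change z ⊗ₜ[A] (1 : B) =
      Algebra.TensorProduct.map (AlgHom.id A k) (IsScalarTower.toAlgHom A C B) (z ⊗ₜ[A] (1 : C))
    simp
  haveI : IsScalarTower A k L := IsScalarTower.of_algebraMap_eq fun a => (ResidueField.map_residue (algebraMap A B) a).symm
  let μ : X →ₐ[A] L := Algebra.TensorProduct.lift (IsScalarTower.toAlgHom A k L) (IsScalarTower.toAlgHom A B L)
    fun _ _ => Commute.all _ _
  have hsurjX : Function.Surjective (Algebra.TensorProduct.includeRight : B →ₐ[A] X) := by
    intro x
    induction x using TensorProduct.induction_on with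
    | zero => exact ⟨0, map_zero _⟩
    | add a b ha hb =>
      obtain ⟨a', rfl⟩ := ha
      obtain ⟨b', rfl⟩ := hb
      exact ⟨a' + b', map_add _ _ _⟩
    | tmul z b =>
      obtain ⟨a, rfl⟩ := residue_surjective z
      refine ⟨a • b, ?_⟩
      change (1 : k) ⊗ₜ[A] (a • b) = algebraMap A k a ⊗ₜ[A] b
      rw [Algebra.algebraMap_eq_smul_one, TensorProduct.smul_tmul]
  haveI : Nontrivial X := RingHom.domain_nontrivial μ.toRingHom
  haveI : IsLocalRing X := IsLocalRing.of_surjective' (Algebra.TensorProduct.includeRight : B →ₐ[A] X).toRingHom hsurjX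
  let q' : Ideal F := (maximalIdeal X).comap (algebraMap F X)
  haveI : IsLocalization.AtPrime X q' := by
    haveI : IsLocalization (q.primeCompl.map (Algebra.TensorProduct.includeRight : C →ₐ[A] F)) X :=
      isLocalization_tensor (A := A) (C := C) (B := B) (K := k) q.primeCompl
    haveI : IsLocalization.AtPrime X (maximalIdeal X) := isLocalization_atPrime_self X
    exact IsLocalization.isLocalization_isLocalization_atPrime_isLocalization
      (q.primeCompl.map (Algebra.TensorProduct.includeRight : C →ₐ[A] F)) X (maximalIdeal X)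
  let π : L ⊗[A] C →ₐ[A] L := Algebra.TensorProduct.lift (AlgHom.id A L)
    ((IsScalarTower.toAlgHom A B L).comp (IsScalarTower.toAlgHom A C B)) fun _ _ => Commute.all _ _
  have hπ : ∀ l c, π (l ⊗ₜ[A] c) = l * residue B (algebraMap C B c) := fun l c => by simp [π, IsLocalRing.ResidueField.algebraMap_eq, L]
  have hπL : ∀ l : L, π (l ⊗ₜ[A] (1 : C)) = l := fun l => by rw [hπ, map_one, map_one, mul_one]
  let πL : L ⊗[A] C →ₐ[L] L := { π.toRingHom with commutes' := hπL }
  haveI : (RingHom.ker π).IsPrime := RingHom.ker_isPrime _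
  have hreg := isRegularLocalRing_of_diag q.primeCompl hmul n hn (L := L) π hπ
  let e : L ⊗[k] F ≃ₐ[L] L ⊗[A] C := Algebra.TensorProduct.cancelBaseChange A k L L C
  haveI : (RingHom.ker πL).IsPrime := RingHom.ker_isPrime _
  haveI : IsRegularLocalRing (Localization.AtPrime (RingHom.ker πL)) := hreg
  haveI : Algebra.FormallySmooth k X := formallySmooth_of_point e πL μ.toRingHom
    (fun l => by
      obtain ⟨b, rfl⟩ := residue_surjective l
      refine ⟨(1 : k) ⊗ₜ[A] b, ?_⟩
      change μ ((1 : k) ⊗ₜ[A] b) = residue B b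
      rw [Algebra.TensorProduct.lift_tmul, map_one, one_mul]
      rfl)
    (fun f => by
      induction f using TensorProduct.induction_on with
      | zero => simp
      | add a b ha hb => simp only [TensorProduct.tmul_add, map_add, ha, hb]
      | tmul z c =>
        change π (e ((1 : L) ⊗ₜ[k] (z ⊗ₜ[A] c))) =
          μ (Algebra.TensorProduct.map (AlgHom.id A k) (IsScalarTower.toAlgHom A C B) (z ⊗ₜ[A] c))
        rw [Algebra.TensorProduct.cancelBaseChange_tmul, hπ, Algebra.TensorProduct.map_tmul]
        change _ = Algebra.TensorProduct.lift _ _ _ _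
        rw [Algebra.TensorProduct.lift_tmul]
        simp [Algebra.smul_def]
        exact Or.inl rfl)
  haveI : Algebra.FormallySmooth A B :=
    Algebra.FormallySmooth.of_formallySmooth_residueField_tensor (R := A) (S := B) (P := C) q.primeCompl
  haveI : Algebra.IsSmoothAt A q :=
    Algebra.FormallySmooth.of_equiv
      ((IsLocalization.algEquiv q.primeCompl B (Localization.AtPrime q)).restrictScalars A)
  obtain ⟨f, hfq, hf⟩ := Algebra.IsSmoothAt.exists_notMem_smooth A q
  let C' := Localization.Away f
  have hfu : IsUnit (algebraMap C B f) := IsLocalization.map_units B (⟨f, hfq⟩ : q.primeCompl)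
  letI : Algebra C' B := (IsLocalization.Away.lift f hfu).toAlgebra
  haveI : IsScalarTower C C' B := IsScalarTower.of_algebraMap_eq fun c => (IsLocalization.Away.lift_eq f hfu c).symm
  haveI : IsScalarTower A C' B := IsScalarTower.of_algebraMap_eq fun a => by
    rw [IsScalarTower.algebraMap_apply A C C', ← IsScalarTower.algebraMap_apply C C' B, ← IsScalarTower.algebraMap_apply]
  refine ⟨C', inferInstance, inferInstance, inferInstance, inferInstance,
    (maximalIdeal B).comap (algebraMap C' B), inferInstance, hf, ?_⟩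
  haveI : IsLocalization (q.primeCompl.map (algebraMap C C')) B :=
    IsLocalization.isLocalization_of_submonoid_le C' B (Submonoid.powers f) q.primeCompl
      (Submonoid.powers_le.2 hfq)
  haveI : IsLocalization.AtPrime B (maximalIdeal B) := isLocalization_atPrime_self B
  exact IsLocalization.isLocalization_isLocalization_atPrime_isLocalization
    (q.primeCompl.map (algebraMap C C')) B (maximalIdeal B)

end Groth.Agent.DiagSmooth
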