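import Groth.Agent.DRingPC.TorDim
import Groth.Agent.ProjDim.Regular
import Groth.Agent.S9273
import Mathlib.RingTheory.IsTensorProduct
import Mathlib.LinearAlgebra.FreeModule.Finite.Basic

/-!
# Tor dimension under restriction and Tor-independent base change
-/

namespace Groth.Agent.DiagSmooth

open TensorProduct CategoryTheory

universe u

/-- A kernel between flat modules is flat. -/
theorem flat_ker {B : Type u} [CommRing B] {F M : Type u} [AddCommGroup F] [Module B F] [Module.Flat B F]
    [AddCommGroup M] [Module B M] [Module.Flat B M] (g : F →ₗ[B] M) (hg : Function.Surjective g) :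
    Module.Flat B (LinearMap.ker g) := by
  rw [Module.Flat.iff_lTensor_injective']
  intro I
  have h1 : Function.Injective ((LinearMap.ker g).subtype.rTensor I) := by
    rw [← LinearMap.lTensor_inj_iff_rTensor_inj]
    exact S9273.lTensor_injective_of_flat_quotient _ Subtype.val_injective g g.exact_subtype_ker_map hg I
  have h2 := Module.Flat.lTensor_preserves_injective_linearMap (M := F) I.subtype Subtype.val_injective
  have h3 : Function.Injective ((LinearMap.ker g).subtype.rTensor B ∘ₗ I.subtype.lTensor (LinearMap.ker g)) := by
    rw [LinearMap.rTensor_comp_lTensor, ← LinearMap.lTensor_comp_rTensor]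
    exact h2.comp h1
  exact Function.Injective.of_comp (f := (LinearMap.ker g).subtype.rTensor B) h3

/-- The step of the inductions: a free cover. -/
theorem td_succ_iff {T : Type u} [CommRing T] {F M : Type u} [AddCommGroup F] [Module T F] [Module.Flat T F]
    [AddCommGroup M] [Module T M] (g : F →ₗ[T] M) (hg : Function.Surjective g) (n : ℕ) :
    DRing.HasTorDimLE T (n + 1) M ↔ DRing.HasTorDimLE T n (LinearMap.ker g) := by
  rw [DRingPC.td_iff, DRingPC.td_iff]
  have hS : g.shortComplexKer.ShortExact := LinearMap.shortExact_shortComplexKer hg
  exact DRingPC.td_shift hS (inferInstanceAs (Module.Flat T F)) n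

theorem td_of_linearEquiv {T : Type u} [CommRing T] {M M' : Type u} [AddCommGroup M] [Module T M]
    [AddCommGroup M'] [Module T M'] (e : M ≃ₗ[T] M') {n : ℕ} (h : DRing.HasTorDimLE T n M) :
    DRing.HasTorDimLE T n M' := by
  rw [DRingPC.td_iff] at h ⊢
  exact DRingPC.td_of_iso e.toModuleIso h

theorem flat_of_td {T : Type u} [CommRing T] {M : Type u} [AddCommGroup M] [Module T M]
    (h : DRing.HasTorDimLE T 0 M) : Module.Flat T M :=
  DRingPC.flat_of_td_zero ((DRingPC.td_iff 0 M).1 h)

theorem td_of_isFlat {T : Type u} [CommRing T] (M : Type u) [AddCommGroup M] [Module T M] [Module.Flat T M]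
    (n : ℕ) : DRing.HasTorDimLE T n M :=
  (DRingPC.td_iff n M).2 (DRingPC.td_of_flat n)

/-- Tor dimension does not grow along restriction by a flat map. -/
theorem td_restrict {T' T : Type u} [CommRing T'] [CommRing T] [Algebra T' T] [Module.Flat T' T] :
    ∀ (n : ℕ) (M : Type u) [AddCommGroup M] [Module T M] [Module T' M] [IsScalarTower T' T M],
      DRing.HasTorDimLE T n M → DRing.HasTorDimLE T' n M := by
  intro n
  induction n with
  | zero =>
    intro M _ _ _ _ h
    haveI := flat_of_td h
    haveI := Module.Flat.trans T' T M
    exact td_of_isFlat M 0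
  | succ n ih =>
    intro M _ _ _ _ h
    let g : (M →₀ T) →ₗ[T] M := Finsupp.linearCombination T (id : M → M)
    have hg : Function.Surjective g := Finsupp.linearCombination_id_surjective T M
    haveI : Module.Flat T' (M →₀ T) := Module.Flat.trans T' T (M →₀ T)
    rw [td_succ_iff g hg] at h
    refine (td_succ_iff (g.restrictScalars T') hg n).2 ?_
    exact td_of_linearEquiv (LinearEquiv.refl T' (LinearMap.ker g)) (ih (LinearMap.ker g) h)

/-- The step of a Tor-independent base change. -/
theorem td_baseChange_step {B T S L F M : Type u} [CommRing B] [CommRing T] [CommRing S] [CommRing L]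
    [Algebra B T] [Algebra B L] [Algebra T S] [Algebra L S] [Algebra B S]
    [IsScalarTower B T S] [IsScalarTower B L S] [Algebra.IsPushout B L T S]
    [AddCommGroup F] [Module T F] [Module.Flat T F] [Module B F] [IsScalarTower B T F]
    [AddCommGroup M] [Module T M] [Module B M] [IsScalarTower B T M]
    (g : F →ₗ[T] M) (hg : Function.Surjective g) (hM : Module.Flat B M) (n : ℕ)
    (h : DRing.HasTorDimLE S n (S ⊗[T] LinearMap.ker g)) : DRing.HasTorDimLE S (n + 1) (S ⊗[T] M) := by
  let i : LinearMap.ker g →ₗ[T] F := (LinearMap.ker g).subtype
  have hex : Function.Exact i g := g.exact_subtype_ker_map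
  have hL : Function.Injective ((i.restrictScalars B).lTensor L) :=
    S9273.lTensor_injective_of_flat_quotient (i.restrictScalars B) Subtype.val_injective (g.restrictScalars B)
      hex hg L
  let eK := Algebra.IsPushout.cancelBaseChange B L T S (LinearMap.ker g)
  let eF := Algebra.IsPushout.cancelBaseChange B L T S F
  have hcomm : ∀ z, i.lTensor S (eK.symm z) = eF.symm ((i.restrictScalars B).lTensor L z) := by
    intro z
    induction z using TensorProduct.induction_on with
    | zero => simp
    | add a b ha hb => simp only [map_add, ha, hb]
    | tmul l m => simp [eK, eF]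
  have hinj : Function.Injective (i.lTensor S) := by
    intro a b hab
    obtain ⟨a', rfl⟩ := eK.symm.surjective a
    obtain ⟨b', rfl⟩ := eK.symm.surjective b
    rw [hcomm, hcomm] at hab
    rw [hL (eF.symm.injective hab)]
  refine (td_succ_iff (g.baseChange S) (LinearMap.lTensor_surjective S hg) n).2 ?_
  have hexS : Function.Exact (i.baseChange S) (g.baseChange S) := lTensor_exact S hex hg
  exact td_of_linearEquiv ((LinearEquiv.ofInjective (i.baseChange S) hinj).trans
    (LinearEquiv.ofEq _ _ (LinearMap.exact_iff.1 hexS).symm)) h

/-- The step of a flat base change. -/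
theorem td_flat_step {S R F M : Type u} [CommRing S] [CommRing R] [Algebra S R] [Module.Flat S R]
    [AddCommGroup F] [Module S F] [Module.Flat S F] [AddCommGroup M] [Module S M]
    (g : F →ₗ[S] M) (hg : Function.Surjective g) (n : ℕ)
    (h : DRing.HasTorDimLE R n (R ⊗[S] LinearMap.ker g)) : DRing.HasTorDimLE R (n + 1) (R ⊗[S] M) := by
  let i : LinearMap.ker g →ₗ[S] F := (LinearMap.ker g).subtype
  have hinj : Function.Injective (i.lTensor R) :=
    Module.Flat.lTensor_preserves_injective_linearMap i Subtype.val_injective
  refine (td_succ_iff (g.baseChange R) (LinearMap.lTensor_surjective R hg) n).2 ?_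
  have hexS : Function.Exact (i.baseChange R) (g.baseChange R) := lTensor_exact R g.exact_subtype_ker_map hg
  exact td_of_linearEquiv ((LinearEquiv.ofInjective (i.baseChange R) hinj).trans
    (LinearEquiv.ofEq _ _ (LinearMap.exact_iff.1 hexS).symm)) h

/-- Tor dimension does not grow along base change, for modules flat over the base of the change. -/
theorem td_baseChange {B T S L : Type u} [CommRing B] [CommRing T] [CommRing S] [CommRing L]
    [Algebra B T] [Module.Flat B T] [Algebra B L] [Algebra T S] [Algebra L S] [Algebra B S]
    [IsScalarTower B T S] [IsScalarTower B L S] [Algebra.IsPushout B L T S] :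
    ∀ (n : ℕ) (M : Type u) [AddCommGroup M] [Module T M] [Module B M] [IsScalarTower B T M],
      Module.Flat B M → DRing.HasTorDimLE T n M → DRing.HasTorDimLE S n (S ⊗[T] M) := by
  intro n
  induction n with
  | zero =>
    intro M _ _ _ _ _ h
    haveI := flat_of_td h
    exact td_of_isFlat _ 0
  | succ n ih =>
    intro M _ _ _ _ hM h
    let g : (M →₀ T) →ₗ[T] M := Finsupp.linearCombination T (id : M → M)
    have hg : Function.Surjective g := Finsupp.linearCombination_id_surjective T M
    rw [td_succ_iff g hg] at h
    haveI : Module.Flat B (M →₀ T) := Module.Flat.trans B T (M →₀ T)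
    haveI hK : Module.Flat B (LinearMap.ker g) := by
      haveI := flat_ker (g.restrictScalars B) hg
      let e : LinearMap.ker g ≃ₗ[B] LinearMap.ker (g.restrictScalars B) :=
        { toFun := fun a => ⟨a.1, a.2⟩, invFun := fun a => ⟨a.1, a.2⟩, map_add' := fun _ _ => rfl,
          map_smul' := fun _ _ => rfl }
      exact Module.Flat.of_linearEquiv e
    exact td_baseChange_step (L := L) g hg hM n (ih (LinearMap.ker g) hK h)

/-- Tor dimension does not grow along flat base change. -/
theorem td_flat_baseChange {S R : Type u} [CommRing S] [CommRing R] [Algebra S R] [Module.Flat S R] :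
    ∀ (n : ℕ) (M : Type u) [AddCommGroup M] [Module S M],
      DRing.HasTorDimLE S n M → DRing.HasTorDimLE R n (R ⊗[S] M) := by
  intro n
  induction n with
  | zero =>
    intro M _ _ h
    haveI := flat_of_td h
    exact td_of_isFlat _ 0
  | succ n ih =>
    intro M _ _ h
    let g : (M →₀ S) →ₗ[S] M := Finsupp.linearCombination S (id : M → M)
    have hg : Function.Surjective g := Finsupp.linearCombination_id_surjective S M
    rw [td_succ_iff g hg] at h
    have hR := ih (LinearMap.ker g) h
    exact td_flat_step g hg n hR

/-- Over a noetherian local ring, finite modules of finite tor dimension have finite projective dimension. -/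
theorem projDim_of_td {R : Type u} [CommRing R] [IsNoetherianRing R] :
    ∀ (n : ℕ) (M : Type u) [AddCommGroup M] [Module R M] [Module.Finite R M],
      DRing.HasTorDimLE R n M → HasProjectiveDimensionLT (ModuleCat.of R M) (n + 1) := by
  intro n
  induction n with
  | zero =>
    intro M _ _ _ h
    haveI := flat_of_td h
    haveI : Module.FinitePresentation R M := Module.finitePresentation_of_finite R M
    haveI : Module.Projective R M := Module.Flat.projective_of_finitePresentation
    haveI : Projective (ModuleCat.of R M) := (IsProjective.iff_projective M).1 inferInstance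
    exact inferInstanceAs (HasProjectiveDimensionLT (ModuleCat.of R M) 1)
  | succ n ih =>
    intro M _ _ _ h
    obtain ⟨r, g, hg⟩ := Module.Finite.exists_fin' R M
    rw [td_succ_iff g hg] at h
    exact (ProjDim.shift_iff (LinearMap.ker g).subtype g Subtype.val_injective g.exact_subtype_ker_map hg n).2
      (ih (LinearMap.ker g) h)

end Groth.Agent.DiagSmooth
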